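import Mathlib
import Groth.Prelude.Def_RegImm
import Groth.Agent.Lib.Helper1.FlatQuotQR
import Groth.Agent.Lib.Helper9.FlatKernel
import Groth.Agent.Lib.Lead.FO1

set_option linter.style.haveILetI false
set_option linter.unusedVariables false
set_option linter.unusedSectionVars false
set_option autoImplicit false
set_option backward.isDefEq.respectTransparency.types false
set_option synthInstance.maxHeartbeats 400000
set_option maxHeartbeats 800000

universe u

/-! helper7: transversally regular sequences: the quotients J^n/J^m and the powers J^n are flat over the base (via quasi-regularity, helper1 FlatQuotQR, and flatness of kernels) -/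

namespace Groth.Agent.Helper7.TransReg

/-- flatness passes to the `RestrictScalars` synonym -/
theorem flat_restrictScalars (A B M : Type u) [CommRing A] [CommRing B] [Algebra A B]
    [AddCommGroup M] [Module B M] [Module A M] [IsScalarTower A B M] [Module.Flat A M] :
    Module.Flat A (RestrictScalars A B M) := by
  let e : RestrictScalars A B M ≃ₗ[A] M :=
    { RestrictScalars.addEquiv A B M with
      map_smul' := fun a x => by
        simp only [AddEquiv.toFun_eq_coe, RingHom.id_apply]
        rw [RestrictScalars.addEquiv_map_smul, algebraMap_smul] }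
  exact Module.Flat.of_linearEquiv e

variable (A B : Type u) [CommRing A] [CommRing B] [Algebra A B]

/-- powers of an ideal with flat quotients of all powers: the quotient `J^n/J^m` is flat -/
theorem flat_pow_quot_of_flat_quot_pow (J : Ideal B)
    (h : ∀ n : ℕ, Module.Flat A (B ⧸ J ^ n)) (n m : ℕ) (hnm : n ≤ m) :
    Module.Flat A (↥(J ^ n) ⧸ (Submodule.comap (J ^ n).subtype (J ^ m))) := by
  have hle : J ^ m ≤ J ^ n := Ideal.pow_le_pow_right hnm
  let ι : (↥(J ^ n) ⧸ (Submodule.comap (J ^ n).subtype (J ^ m))) →ₗ[A] (B ⧸ J ^ m) :=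
    (Submodule.mapQ (Submodule.comap (J ^ n).subtype (J ^ m)) (J ^ m) (J ^ n).subtype
      le_rfl).restrictScalars A
  let π : (B ⧸ J ^ m) →ₗ[A] (B ⧸ J ^ n) :=
    (Submodule.mapQ (J ^ m) (J ^ n) LinearMap.id (by simpa using hle)).restrictScalars A
  haveI := h m
  haveI := h n
  refine Groth.Agent.Helper9.flat_of_exact_of_flat ι π ?_ ?_ ?_
  · rw [injective_iff_map_eq_zero]
    intro x hx
    obtain ⟨x, rfl⟩ := Submodule.Quotient.mk_surjective _ x
    simp only [ι, LinearMap.restrictScalars_apply, Submodule.mapQ_apply, Submodule.subtype_apply,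
      Submodule.Quotient.mk_eq_zero] at hx
    rw [Submodule.Quotient.mk_eq_zero]
    exact hx
  · intro y
    obtain ⟨y, rfl⟩ := Submodule.Quotient.mk_surjective _ y
    simp only [π, LinearMap.restrictScalars_apply, Submodule.mapQ_apply, LinearMap.id_apply,
      Submodule.Quotient.mk_eq_zero]
    constructor
    · intro hy
      exact ⟨Submodule.Quotient.mk ⟨y, hy⟩, by simp [ι]⟩
    · rintro ⟨x, hx⟩
      obtain ⟨x, rfl⟩ := Submodule.Quotient.mk_surjective _ x
      simp only [ι, LinearMap.restrictScalars_apply, Submodule.mapQ_apply,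
        Submodule.subtype_apply] at hx
      have h1 : y - (x : B) ∈ J ^ m := by
        rw [← Submodule.Quotient.mk_eq_zero, Submodule.Quotient.mk_sub, ← hx, sub_self]
      have h2 := (J ^ n).add_mem (hle h1) x.2
      simpa using h2
  · intro y
    obtain ⟨y, rfl⟩ := Submodule.Quotient.mk_surjective _ y
    exact ⟨Submodule.Quotient.mk y, by simp [π]⟩

/-- powers of an ideal with flat quotients of all powers, in a flat algebra, are flat -/
theorem flat_pow_of_flat_quot_pow [Module.Flat A B] (J : Ideal B)
    (h : ∀ n : ℕ, Module.Flat A (B ⧸ J ^ n)) (n : ℕ) : Module.Flat A ↥(J ^ n) := by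
  haveI := h n
  refine Groth.Agent.Helper9.flat_of_exact_of_flat
    ((J ^ n).subtype.restrictScalars A) ((Submodule.mkQ (J ^ n)).restrictScalars A)
    (Submodule.subtype_injective _) ?_ (Submodule.mkQ_surjective _)
  intro y
  simp only [LinearMap.restrictScalars_apply, Submodule.mkQ_apply, Submodule.Quotient.mk_eq_zero,
    Set.mem_range, Submodule.subtype_apply]
  constructor
  · intro hy; exact ⟨⟨y, hy⟩, rfl⟩
  · rintro ⟨w, rfl⟩; exact w.2

variable {B}

theorem flat_quot_pow_of_transRegular (rs : List B) (hrs : RegImm.IsTransRegularSeq A B rs)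
    (n : ℕ) : Module.Flat A (B ⧸ (Ideal.ofList rs) ^ n) := by
  obtain ⟨hreg, hfl⟩ := hrs
  have hofFn : List.ofFn (fun i : Fin rs.length => rs.get i) = rs := List.ofFn_get rs
  have hq : CAlgX.IsQuasiRegular (fun i : Fin rs.length => rs.get i) :=
    Groth.Agent.Helper1.QuasiReg.isQuasiRegular_of_isWeaklyRegular _ _ (by rw [hofFn]; exact hreg)
  have hJ : Ideal.ofList rs = Ideal.span (Set.range (fun i : Fin rs.length => rs.get i)) := by
    rw [← Groth.Agent.Helper1.QuasiReg.ofList_ofFn, hofFn]
  have hflatJ : Module.Flat A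
      (B ⧸ Ideal.span (Set.range (fun i : Fin rs.length => rs.get i))) := by
    have := hfl rs.length le_rfl
    rw [List.take_length, hJ] at this
    exact this
  rw [hJ]
  exact Groth.Agent.Helper1.FlatQuotQR.flat_quot_pow _ A hflatJ hq n

theorem flat_of_transRegular (rs : List B) (hrs : RegImm.IsTransRegularSeq A B rs) :
    Module.Flat A B := by
  have h0 := hrs.2 0 (Nat.zero_le _)
  rw [List.take_zero, Ideal.ofList_nil] at h0
  exact Module.Flat.of_linearEquiv (AlgEquiv.quotientBot A B).toLinearEquiv.symm

/-- S5071 -/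
theorem main (rs : List B) (hrs : RegImm.IsTransRegularSeq A B rs) (n m : ℕ) (hnm : n < m) :
    Module.Flat A (RestrictScalars A B
      (↥(Ideal.ofList rs ^ n) ⧸ (Submodule.comap (Ideal.ofList rs ^ n).subtype (Ideal.ofList rs ^ m)))) ∧
      ∀ (q : Ideal B) [q.IsPrime], Ideal.ofList rs ≤ q →
        Module.Flat A (RestrictScalars A B (LocalizedModule q.primeCompl ↥(Ideal.ofList rs ^ n))) := by
  have hall := flat_quot_pow_of_transRegular A rs hrs
  haveI := flat_of_transRegular A rs hrs
  constructor
  · haveI := flat_pow_quot_of_flat_quot_pow A B (Ideal.ofList rs) hall n m hnm.le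
    exact flat_restrictScalars A B _
  · intro q _ _
    haveI := flat_pow_of_flat_quot_pow A B (Ideal.ofList rs) hall n
    haveI : Module.Flat A (LocalizedModule q.primeCompl ↥(Ideal.ofList rs ^ n)) :=
      Groth.Agent.Lead.FO.flat_of_isLocalizedModule_algebra (R := A) (S := B) q.primeCompl
        (LocalizedModule.mkLinearMap q.primeCompl ↥(Ideal.ofList rs ^ n))
    exact flat_restrictScalars A B _

end Groth.Agent.Helper7.TransReg
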